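import Mathlib
import Cfsg.Prelude.Def_AxialAlgebras

set_option autoImplicit false

/-!
Elementary facts on Majorana pairs: fusion rules in operator form, the decomposition of a fixed
vector with respect to an axis, conjugates of pairs.
-/

namespace CfsgLib.Majorana

open Cfsg.Axial

variable {V : Type*} [AddCommGroup V] [Module ℝ V]

theorem mem_eigen {mul : V →ₗ[ℝ] V →ₗ[ℝ] V} {a v : V} {c : ℝ} :
    v ∈ eigen mul a c ↔ mul a v = c • v := Module.End.mem_eigenspace_iff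

theorem eigenSum_singleton (mul : V →ₗ[ℝ] V →ₗ[ℝ] V) (a : V) (c : ℝ) :
    eigenSum mul a {c} = eigen mul a c := iSup_singleton

theorem eigenSum_insert (mul : V →ₗ[ℝ] V →ₗ[ℝ] V) (a : V) (c : ℝ) (S : Set ℝ) :
    eigenSum mul a (insert c S) = eigen mul a c ⊔ eigenSum mul a S := iSup_insert

theorem law_zero_zero : monsterLaw (1 / 4 : ℝ) (1 / 32) 0 0 = {0} := by
  unfold monsterLaw; norm_num

theorem law_zero_quarter : monsterLaw (1 / 4 : ℝ) (1 / 32) 0 (1 / 4) = {1 / 4} := by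
  unfold monsterLaw; norm_num

theorem law_quarter_quarter : monsterLaw (1 / 4 : ℝ) (1 / 32) (1 / 4) (1 / 4) = {1, 0} := by
  unfold monsterLaw; norm_num

section pair

variable {mul : V →ₗ[ℝ] V →ₗ[ℝ] V} {B : LinearMap.BilinForm ℝ V} {μ : V ≃ₗ[ℝ] V} {a : V}

theorem axis_idem (h : IsMajoranaPair mul B μ a) : mul a a = a := h.2.2.1.1.2.1

theorem axis_ne_zero (h : IsMajoranaPair mul B μ a) : a ≠ 0 := h.2.2.1.1.1

theorem mul_zero_zero (h : IsMajoranaPair mul B μ a) {p q : V} (hp : mul a p = 0) (hq : mul a q = 0) :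
    mul a (mul p q) = 0 := by
  have := h.2.2.1.1.2.2.2 0 (by simp [majoranaSpectrum]) 0 (by simp [majoranaSpectrum]) p
    (mem_eigen.mpr (by simp [hp])) q (mem_eigen.mpr (by simp [hq]))
  rw [law_zero_zero, eigenSum_singleton, mem_eigen] at this
  simpa using this

theorem mul_zero_quarter (h : IsMajoranaPair mul B μ a) {p q : V} (hp : mul a p = 0)
    (hq : mul a q = (1 / 4 : ℝ) • q) : mul a (mul p q) = (1 / 4 : ℝ) • mul p q := by
  have := h.2.2.1.1.2.2.2 0 (by simp [majoranaSpectrum]) (1 / 4) (by simp [majoranaSpectrum]) p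
    (mem_eigen.mpr (by simp [hp])) q (mem_eigen.mpr hq)
  rwa [law_zero_quarter, eigenSum_singleton, mem_eigen] at this

theorem mul_quarter_quarter (h : IsMajoranaPair mul B μ a) {p q : V}
    (hp : mul a p = (1 / 4 : ℝ) • p) (hq : mul a q = (1 / 4 : ℝ) • q) :
    mul a (mul a (mul p q)) = mul a (mul p q) := by
  have := h.2.2.1.1.2.2.2 (1 / 4) (by simp [majoranaSpectrum]) (1 / 4) (by simp [majoranaSpectrum]) p
    (mem_eigen.mpr hp) q (mem_eigen.mpr hq)
  rw [law_quarter_quarter, eigenSum_insert, eigenSum_singleton, Submodule.mem_sup] at this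
  obtain ⟨y, hy, z, hz, hyz⟩ := this
  rw [mem_eigen, one_smul] at hy
  rw [mem_eigen, zero_smul] at hz
  rw [← hyz]
  simp [hy, hz]

/-- The automorphism conjugate of a Majorana pair is a Majorana pair. -/
theorem conj_pair (φ : V ≃ₗ[ℝ] V) (hφm : ∀ u v : V, φ (mul u v) = mul (φ u) (φ v))
    (hφB : ∀ u v : V, B (φ u) (φ v) = B u v) (h : IsMajoranaPair mul B μ a) :
    IsMajoranaPair mul B (φ * μ * φ⁻¹) (φ a) := by
  obtain ⟨hm, hB, ⟨⟨ha0, haa, hsum, hfus⟩, hprim⟩, hfix, hneg⟩ := h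
  have hinv : ∀ v, φ ((φ⁻¹ : V ≃ₗ[ℝ] V) v) = v := fun v => φ.apply_symm_apply v
  have hinv' : ∀ v, (φ⁻¹ : V ≃ₗ[ℝ] V) (φ v) = v := fun v => φ.symm_apply_apply v
  have hinvm : ∀ u v : V, (φ⁻¹ : V ≃ₗ[ℝ] V) (mul u v)
      = mul ((φ⁻¹ : V ≃ₗ[ℝ] V) u) ((φ⁻¹ : V ≃ₗ[ℝ] V) v) := by
    intro u v; apply φ.injective; rw [hinv, hφm, hinv, hinv]
  have he : ∀ c, eigen mul (φ a) c = (eigen mul a c).map (φ : V →ₗ[ℝ] V) := by
    intro c; ext v
    rw [Submodule.mem_map, mem_eigen]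
    constructor
    · intro hv
      refine ⟨(φ⁻¹ : V ≃ₗ[ℝ] V) v, mem_eigen.mpr ?_, hinv v⟩
      have := congrArg (φ⁻¹ : V ≃ₗ[ℝ] V) hv
      rwa [hinvm, hinv', map_smul] at this
    · rintro ⟨w, hw, rfl⟩
      rw [LinearEquiv.coe_coe, ← hφm, mem_eigen.mp hw, map_smul]
  have heS : ∀ S, eigenSum mul (φ a) S = (eigenSum mul a S).map (φ : V →ₗ[ℝ] V) := by
    intro S; simp only [eigenSum, Submodule.map_iSup, he]
  refine ⟨?_, ?_, ⟨⟨?_, ?_, ?_, ?_⟩, ?_⟩, ?_, ?_⟩
  · intro u v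
    show φ (μ ((φ⁻¹ : V ≃ₗ[ℝ] V) (mul u v))) = _
    rw [hinvm, hm, hφm]; rfl
  · intro u v
    show B (φ (μ ((φ⁻¹ : V ≃ₗ[ℝ] V) u))) (φ (μ ((φ⁻¹ : V ≃ₗ[ℝ] V) v))) = _
    rw [hφB, hB, ← hφB, hinv, hinv]
  · simpa using ha0
  · rw [← hφm, haa]
  · rw [heS, hsum, Submodule.map_top]
    exact LinearMap.range_eq_top.mpr φ.surjective
  · intro c hc d hd u hu v hv
    rw [he, Submodule.mem_map] at hu hv
    obtain ⟨u', hu', rfl⟩ := hu
    obtain ⟨v', hv', rfl⟩ := hv
    rw [heS, Submodule.mem_map]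
    exact ⟨_, hfus c hc d hd u' hu' v' hv', hφm u' v'⟩
  · rw [he, hprim, Submodule.map_span, Set.image_singleton]; rfl
  · intro v hv
    rw [heS, Submodule.mem_map] at hv
    obtain ⟨w, hw, rfl⟩ := hv
    show φ (μ ((φ⁻¹ : V ≃ₗ[ℝ] V) (φ w))) = φ w
    rw [hinv']
    exact congrArg φ (hfix w hw)
  · intro v hv
    rw [he, Submodule.mem_map] at hv
    obtain ⟨w, hw, rfl⟩ := hv
    show φ (μ ((φ⁻¹ : V ≃ₗ[ℝ] V) (φ w))) = -φ w
    rw [hinv', ← map_neg]
    exact congrArg φ (hneg w hw)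

/-- A vector fixed by the involution is, relative to the axis, a multiple of the axis plus a
`0`-eigenvector plus a `1/4`-eigenvector; the multiple is given by the form. -/
theorem fixed_decomp (hV : IsMajoranaAmbient mul B) (h : IsMajoranaPair mul B μ a) (hn : B a a = 1)
    {v : V} (hv : μ v = v) :
    ∃ p q : V, mul a p = 0 ∧ mul a q = (1 / 4 : ℝ) • q ∧ v = B a v • a + p + q := by
  obtain ⟨-, -, hass, -⟩ : _ ∧ _ ∧ (∀ u v w : V, B u (mul v w) = B (mul u v) w) ∧ _ :=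
    ⟨hV.2.1, hV.2.2.1, hV.2.2.2.1, hV.2.2.2.2⟩
  have hsum : v ∈ eigenSum mul a majoranaSpectrum := by rw [h.2.2.1.1.2.2.1]; trivial
  rw [majoranaSpectrum, eigenSum_insert, eigenSum_insert, eigenSum_insert, eigenSum_singleton] at hsum
  obtain ⟨x, hx, y, hy, rfl⟩ := Submodule.mem_sup.mp hsum
  obtain ⟨p, hp, z, hz, rfl⟩ := Submodule.mem_sup.mp hy
  obtain ⟨q, hq, r, hr, rfl⟩ := Submodule.mem_sup.mp hz
  have hfix : ∀ w, w ∈ eigen mul a 1 ∨ w ∈ eigen mul a 0 ∨ w ∈ eigen mul a (1 / 4) → μ w = w := by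
    intro w hw
    apply h.2.2.2.1 w
    rw [eigenSum_insert, eigenSum_insert, eigenSum_singleton]
    rcases hw with hw | hw | hw
    · exact Submodule.mem_sup_left hw
    · exact Submodule.mem_sup_right (Submodule.mem_sup_left hw)
    · exact Submodule.mem_sup_right (Submodule.mem_sup_right hw)
  have hr' : μ r = -r := h.2.2.2.2 r hr
  rw [map_add, map_add, map_add, hfix x (Or.inl hx), hfix p (Or.inr (Or.inl hp)),
    hfix q (Or.inr (Or.inr hq)), hr', add_right_inj, add_right_inj, add_right_inj] at hv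
  have hr0 : r = 0 := by
    have h2 : (2 : ℝ) • r = 0 := by rw [two_smul]; nth_rewrite 1 [← hv]; simp
    simpa using h2
  rw [h.2.2.1.2, Submodule.mem_span_singleton] at hx
  obtain ⟨c, rfl⟩ := hx
  have hp' : mul a p = 0 := by simpa using mem_eigen.mp hp
  have hq' := mem_eigen.mp hq
  have e1 : B a p = 0 := by
    have := hass a a p
    rw [axis_idem h, hp', map_zero] at this
    exact this.symm
  have e2 : B a q = 0 := by
    have := hass a a q
    rw [axis_idem h, hq', map_smul, smul_eq_mul] at this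
    linarith
  refine ⟨p, q, hp', hq', ?_⟩
  subst hr0
  simp [map_add, map_smul, hn, e1, e2, add_assoc]

end pair

end CfsgLib.Majorana
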