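import Mathlib
import Cfsg.Prelude.Def_AxialAlgebras
import Cfsg.Agent.Lib.Majorana.Basic

set_option autoImplicit false

/-!
Dihedral sequences of Majorana axes: the products and inner products of neighbouring axes.
-/

namespace CfsgLib.Majorana

open Cfsg.Axial

variable {V : Type*} [AddCommGroup V] [Module ℝ V]

section pair

variable {mul : V →ₗ[ℝ] V →ₗ[ℝ] V} {B : LinearMap.BilinForm ℝ V} {μ : V ≃ₗ[ℝ] V} {a : V}

/-- Every vector is a fixed vector of the three plus eigenspaces and a `1/32`-eigenvector. -/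
theorem plus_minus_decomp (h : IsMajoranaPair mul B μ a) (v : V) :
    ∃ f r : V, f ∈ eigenSum mul a {1, 0, 1 / 4} ∧ r ∈ eigen mul a (1 / 32) ∧ v = f + r := by
  have hsum : v ∈ eigenSum mul a majoranaSpectrum := by rw [h.2.2.1.1.2.2.1]; trivial
  rw [majoranaSpectrum, eigenSum_insert, eigenSum_insert, eigenSum_insert, eigenSum_singleton] at hsum
  obtain ⟨x, hx, y, hy, rfl⟩ := Submodule.mem_sup.mp hsum
  obtain ⟨p, hp, z, hz, rfl⟩ := Submodule.mem_sup.mp hy
  obtain ⟨q, hq, r, hr, rfl⟩ := Submodule.mem_sup.mp hz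
  refine ⟨x + p + q, r, ?_, hr, by abel⟩
  rw [eigenSum_insert, eigenSum_insert, eigenSum_singleton]
  exact add_mem (add_mem (Submodule.mem_sup_left hx)
    (Submodule.mem_sup_right (Submodule.mem_sup_left hp)))
    (Submodule.mem_sup_right (Submodule.mem_sup_right hq))

theorem axis_fixed (h : IsMajoranaPair mul B μ a) : μ a = a := by
  apply h.2.2.2.1 a
  rw [eigenSum_insert]
  exact Submodule.mem_sup_left (mem_eigen.mpr (by rw [axis_idem h, one_smul]))

theorem invol_apply (h : IsMajoranaPair mul B μ a) (v : V) : μ (μ v) = v := by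
  obtain ⟨f, r, hf, hr, rfl⟩ := plus_minus_decomp h v
  have h1 : μ f = f := h.2.2.2.1 f hf
  have h2 : μ r = -r := h.2.2.2.2 r hr
  rw [map_add, h1, h2, map_add, map_neg, h1, h2, neg_neg]

theorem mul_odd_part (h : IsMajoranaPair mul B μ a) (v : V) :
    mul a (v - μ v) = (1 / 32 : ℝ) • (v - μ v) := by
  obtain ⟨f, r, hf, hr, rfl⟩ := plus_minus_decomp h v
  have h1 : μ f = f := h.2.2.2.1 f hf
  have h2 : μ r = -r := h.2.2.2.2 r hr
  have h3 : f + r - μ (f + r) = (2 : ℝ) • r := by rw [map_add, h1, h2]; module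
  rw [h3, map_smul, mem_eigen.mp hr]; module

theorem involution_unique (h : IsMajoranaPair mul B μ a) {μ' : V ≃ₗ[ℝ] V}
    (h' : IsMajoranaPair mul B μ' a) : μ' = μ := by
  refine LinearEquiv.ext fun v => ?_
  obtain ⟨f, r, hf, hr, rfl⟩ := plus_minus_decomp h v
  have h1 : μ f = f := h.2.2.2.1 f hf
  have h2 : μ r = -r := h.2.2.2.2 r hr
  have h1' : μ' f = f := h'.2.2.2.1 f hf
  have h2' : μ' r = -r := h'.2.2.2.2 r hr
  rw [map_add, map_add, h1, h2, h1', h2']

theorem eq_of_inner_eq_one (hV : IsMajoranaAmbient mul B) {x y : V} (hx : B x x = 1) (hy : B y y = 1)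
    (hxy : B x y = 1) : y = x := by
  by_contra hne
  have hpos := hV.2.2.1 (y - x) (sub_ne_zero.mpr hne)
  have hyx : B y x = 1 := by rw [hV.2.1 y x, hxy]
  simp only [map_sub, LinearMap.sub_apply, hx, hy, hxy, hyx] at hpos
  norm_num at hpos

/-- The invariant vector of an axis and a second norm-one vector. -/
theorem mul_sigma (hV : IsMajoranaAmbient mul B) (h : IsMajoranaPair mul B μ a) (hn : B a a = 1)
    (b : V) :
    μ (mul a b - (1 / 32 : ℝ) • (a + b)) = mul a b - (1 / 32 : ℝ) • (a + b) ∧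
    mul a (mul a b - (1 / 32 : ℝ) • (a + b)) = (7 / 32 : ℝ) • (mul a b - (1 / 32 : ℝ) • (a + b))
      + (7 / 2048 : ℝ) • (b + μ b) + (3 / 4 * B a b - 25 / 1024) • a ∧
    ∃ p q : V, mul a p = 0 ∧ mul a q = (1 / 4 : ℝ) • q ∧
      q = (4 : ℝ) • (mul a b - (1 / 32 : ℝ) • (a + b)) + (1 / 8 - 4 * B a b) • a
        + (1 / 16 : ℝ) • (b + μ b) ∧
      p = (1 / 2 : ℝ) • (b + μ b) - B a b • a - q := by
  obtain ⟨s, hsdef⟩ : ∃ s : V, s = (1 / 2 : ℝ) • (b + μ b) := ⟨_, rfl⟩
  have hs : μ s = s := by rw [hsdef, map_smul, map_add, invol_apply h, add_comm (μ b) b]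
  have hμa := axis_fixed h
  have hl : B a (μ b) = B a b := by
    conv_lhs => rw [← hμa]
    exact h.2.1 a b
  have hls : B a s = B a b := by
    simp only [hsdef, map_smul, map_add, hl, smul_eq_mul]; ring
  have hodd := mul_odd_part h b
  simp only [map_sub] at hodd
  have has : mul a s = mul a b - (1 / 64 : ℝ) • (b - μ b) := by
    simp only [hsdef, map_smul, map_add]
    linear_combination (norm := module) (-1 / 2 : ℝ) • hodd
  obtain ⟨p, q, hp, hq, hdec⟩ := fixed_decomp hV h hn hs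
  rw [hls] at hdec
  have h4 : mul a s = B a b • a + (1 / 4 : ℝ) • q := by
    rw [hdec, map_add, map_add, map_smul, axis_idem h, hp, hq]; module
  have hqe : q = (4 : ℝ) • (mul a b - (1 / 32 : ℝ) • (a + b)) + (1 / 8 - 4 * B a b) • a
      + (1 / 16 : ℝ) • (b + μ b) := by
    linear_combination (norm := module) (-4 : ℝ) • h4 + (4 : ℝ) • has
  have hfix : μ (mul a b - (1 / 32 : ℝ) • (a + b)) = mul a b - (1 / 32 : ℝ) • (a + b) := by
    have e : mul a b - (1 / 32 : ℝ) • (a + b) = mul a s - (1 / 32 : ℝ) • (a + s) := by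
      rw [has, hsdef]; module
    have e1 : μ (mul a s) = mul a s := by rw [h.1, hμa, hs]
    have e2 : μ (a + s) = a + s := by rw [map_add, hμa, hs]
    rw [e, map_sub, map_smul, e1, e2]
  refine ⟨hfix, ?_, p, q, hp, hq, hqe, ?_⟩
  · have e := hq
    rw [hqe] at e
    simp only [map_add, map_smul, axis_idem h] at e ⊢
    have ho : mul a (μ b) = mul a b - (1 / 32 : ℝ) • (b - μ b) := by
      linear_combination (norm := module) -hodd
    rw [ho] at e
    linear_combination (norm := module) (1 / 4 : ℝ) • e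
  · linear_combination (norm := module) -hdec + hsdef

end pair

/-- A sequence of Majorana axes on which each involution acts as the reflection at its index. -/
structure Dihedral (mul : V →ₗ[ℝ] V →ₗ[ℝ] V) (B : LinearMap.BilinForm ℝ V) where
  /-- the axes -/
  a : ℤ → V
  /-- the involutions -/
  τ : ℤ → V ≃ₗ[ℝ] V
  pair : ∀ i, IsMajoranaPair mul B (τ i) (a i)
  norm_one : ∀ i, B (a i) (a i) = 1
  refl : ∀ i j, τ i (a j) = a (2 * i - j)

namespace Dihedral

variable {mul : V →ₗ[ℝ] V →ₗ[ℝ] V} {B : LinearMap.BilinForm ℝ V}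

/-- The sequence moved by `k`. -/
def shift (D : Dihedral mul B) (k : ℤ) : Dihedral mul B where
  a i := D.a (i + k)
  τ i := D.τ (i + k)
  pair i := D.pair (i + k)
  norm_one i := D.norm_one (i + k)
  refl i j := by rw [D.refl, show 2 * (i + k) - (j + k) = 2 * i - j + k by ring]

/-- The invariant vector at distance one. -/
noncomputable def sig (D : Dihedral mul B) (i : ℤ) : V :=
  mul (D.a i) (D.a (i + 1)) - (1 / 32 : ℝ) • (D.a i + D.a (i + 1))

/-- The invariant vector at distance two. -/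
noncomputable def sig₂ (D : Dihedral mul B) (i : ℤ) : V :=
  mul (D.a i) (D.a (i + 2)) - (1 / 32 : ℝ) • (D.a i + D.a (i + 2))

/-- The inner product at distance one. -/
def lam (D : Dihedral mul B) : ℝ := B (D.a 0) (D.a 1)

/-- The inner product at distance two. -/
def mu (D : Dihedral mul B) : ℝ := B (D.a 0) (D.a 2)

theorem const_of_step {α : Type*} (f : ℤ → α) (h : ∀ i, f (i - 1) = f i) : ∀ i, f i = f 0 := by
  intro i
  induction i using Int.induction_on with
  | zero => rfl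
  | succ n ih => rw [← ih, ← h (n + 1), add_sub_cancel_right]
  | pred n ih => rw [h, ih]

variable (hV : IsMajoranaAmbient mul B) (D : Dihedral mul B)
include hV

theorem sig_eq (i : ℤ) : D.sig i = D.sig 0 := by
  apply const_of_step
  intro i
  have h := (mul_sigma hV (D.pair i) (D.norm_one i) (D.a (i + 1))).1
  rw [map_sub, map_smul, map_add, (D.pair i).1, D.refl, D.refl,
    show 2 * i - i = i by ring, show 2 * i - (i + 1) = i - 1 by ring] at h
  unfold sig
  rw [sub_add_cancel, ← h, hV.1 (D.a (i - 1)), add_comm (D.a (i - 1))]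

theorem sig₂_step (i : ℤ) : D.sig₂ (i - 2) = D.sig₂ i := by
  have h := (mul_sigma hV (D.pair i) (D.norm_one i) (D.a (i + 2))).1
  rw [map_sub, map_smul, map_add, (D.pair i).1, D.refl, D.refl,
    show 2 * i - i = i by ring, show 2 * i - (i + 2) = i - 2 by ring] at h
  unfold sig₂
  rw [sub_add_cancel, ← h, hV.1 (D.a (i - 2)), add_comm (D.a (i - 2))]

theorem sig₂_even (k : ℤ) : D.sig₂ (2 * k) = D.sig₂ 0 :=
  const_of_step (fun k => D.sig₂ (2 * k)) (fun k => by
    show D.sig₂ (2 * (k - 1)) = D.sig₂ (2 * k)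
    rw [show 2 * (k - 1) = 2 * k - 2 by ring]; exact sig₂_step hV D _) k

theorem sig₂_odd (k : ℤ) : D.sig₂ (2 * k + 1) = D.sig₂ 1 :=
  const_of_step (fun k => D.sig₂ (2 * k + 1)) (fun k => by
    show D.sig₂ (2 * (k - 1) + 1) = D.sig₂ (2 * k + 1)
    rw [show 2 * (k - 1) + 1 = 2 * k + 1 - 2 by ring]; exact sig₂_step hV D _) k

theorem inner_one (i : ℤ) : B (D.a i) (D.a (i + 1)) = D.lam := by
  refine (const_of_step (fun i => B (D.a i) (D.a (i + 1))) (fun i => ?_) i).trans (by simp [lam])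
  show B (D.a (i - 1)) (D.a (i - 1 + 1)) = B (D.a i) (D.a (i + 1))
  rw [sub_add_cancel, ← (D.pair i).2.1 (D.a (i - 1)), D.refl, D.refl, hV.2.1,
    show 2 * i - i = i by ring, show 2 * i - (i - 1) = i + 1 by ring]

theorem inner_one' (i : ℤ) : B (D.a (i + 1)) (D.a i) = D.lam := by
  rw [hV.2.1, inner_one hV D]

theorem mul_one' (i : ℤ) :
    mul (D.a i) (D.a (i + 1)) = D.sig 0 + (1 / 32 : ℝ) • (D.a i + D.a (i + 1)) := by
  rw [← sig_eq hV D i]; unfold sig; module

omit hV in
theorem mul_two (i : ℤ) :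
    mul (D.a i) (D.a (i + 2)) = D.sig₂ i + (1 / 32 : ℝ) • (D.a i + D.a (i + 2)) := by
  unfold sig₂; module

theorem inner_sig (i : ℤ) : B (D.a i) (D.sig 0) = D.lam - (1 / 32) * (1 + D.lam) := by
  rw [← sig_eq hV D i]; unfold sig
  rw [map_sub, map_smul, map_add, hV.2.2.2.1, axis_idem (D.pair i), inner_one hV D, D.norm_one,
    smul_eq_mul]

theorem mul_sig (i : ℤ) :
    mul (D.a i) (D.sig 0) = (7 / 32 : ℝ) • D.sig 0 + (7 / 2048 : ℝ) • (D.a (i + 1) + D.a (i - 1))
      + (3 / 4 * D.lam - 25 / 1024) • D.a i := by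
  have h := (mul_sigma hV (D.pair i) (D.norm_one i) (D.a (i + 1))).2.1
  rw [inner_one hV D, D.refl, show 2 * i - (i + 1) = i - 1 by ring] at h
  rw [← sig_eq hV D i]; exact h

/-- The inner product at distance two does not depend on the parity. -/
theorem inner_two_zero_one : B (D.a (-1)) (D.a 1) = D.mu := by
  have hass := hV.2.2.2.1
  have h0 := mul_sig hV D 0
  have h1 := mul_sig hV D 1
  norm_num at h0 h1
  have e1 : B (mul (D.a 0) (D.sig 0)) (D.a 1) = B (D.sig 0) (mul (D.a 0) (D.a 1)) := by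
    rw [hV.1 (D.a 0) (D.sig 0)]; exact (hass _ _ _).symm
  have e2 : B (mul (D.a 1) (D.sig 0)) (D.a 0) = B (D.sig 0) (mul (D.a 0) (D.a 1)) := by
    rw [hV.1 (D.a 1) (D.sig 0), hV.1 (D.a 0) (D.a 1)]; exact (hass _ _ _).symm
  have e := e1.trans e2.symm
  have q0 : B (D.sig 0) (D.a 0) = D.lam - (1 / 32) * (1 + D.lam) := by
    rw [hV.2.1]; exact inner_sig hV D 0
  have q1 : B (D.sig 0) (D.a 1) = D.lam - (1 / 32) * (1 + D.lam) := by
    rw [hV.2.1]; exact inner_sig hV D 1
  have hl : B (D.a 0) (D.a 1) = D.lam := rfl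
  have hm : B (D.a 2) (D.a 0) = D.mu := hV.2.1 _ _
  rw [h0, h1] at e
  simp only [map_add, map_smul, LinearMap.add_apply, LinearMap.smul_apply, smul_eq_mul,
    q0, q1, D.norm_one, hl, hm, hV.2.1 (D.a 1) (D.a 0)] at e
  linarith

theorem inner_two (i : ℤ) : B (D.a i) (D.a (i + 2)) = D.mu := by
  have step : ∀ j, B (D.a (j - 2)) (D.a (j - 2 + 2)) = B (D.a j) (D.a (j + 2)) := fun j => by
    rw [sub_add_cancel, ← (D.pair j).2.1 (D.a (j - 2)), D.refl, D.refl, hV.2.1,
      show 2 * j - j = j by ring, show 2 * j - (j - 2) = j + 2 by ring]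
  rcases Int.emod_two_eq_zero_or_one i with h | h
  · obtain ⟨k, rfl⟩ : ∃ k, i = 2 * k := ⟨i / 2, by omega⟩
    refine (const_of_step (fun k => B (D.a (2 * k)) (D.a (2 * k + 2))) (fun k => ?_) k).trans
      (by simp [mu])
    show B (D.a (2 * (k - 1))) (D.a (2 * (k - 1) + 2)) = B (D.a (2 * k)) (D.a (2 * k + 2))
    rw [show 2 * (k - 1) = 2 * k - 2 by ring]; exact step _
  · obtain ⟨k, rfl⟩ : ∃ k, i = 2 * k + 1 := ⟨i / 2, by omega⟩
    have hb : B (D.a (2 * (-1) + 1)) (D.a (2 * (-1) + 1 + 2)) = D.mu := by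
      norm_num; exact inner_two_zero_one hV D
    rw [← hb]
    have hc := const_of_step (fun k => B (D.a (2 * k + 1)) (D.a (2 * k + 1 + 2))) (fun k => by
      show B (D.a (2 * (k - 1) + 1)) (D.a (2 * (k - 1) + 1 + 2)) = _
      rw [show 2 * (k - 1) + 1 = 2 * k + 1 - 2 by ring]; exact step _)
    exact (hc k).trans (hc (-1)).symm

theorem mul_sig₂ (i : ℤ) :
    mul (D.a i) (D.sig₂ i) = (7 / 32 : ℝ) • D.sig₂ i + (7 / 2048 : ℝ) • (D.a (i + 2) + D.a (i - 2))
      + (3 / 4 * D.mu - 25 / 1024) • D.a i := by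
  have h := (mul_sigma hV (D.pair i) (D.norm_one i) (D.a (i + 2))).2.1
  rw [inner_two hV D, D.refl, show 2 * i - (i + 2) = i - 2 by ring] at h
  exact h

theorem inner_sig₂_self (i : ℤ) : B (D.a i) (D.sig₂ i) = D.mu - (1 / 32) * (1 + D.mu) := by
  unfold sig₂
  rw [map_sub, map_smul, map_add, hV.2.2.2.1, axis_idem (D.pair i), inner_two hV D, D.norm_one,
    smul_eq_mul]

theorem inner_sig₂_adj (i : ℤ) :
    B (D.a (i + 1)) (D.sig₂ i) = D.lam - (1 / 32) * (1 + D.lam) + (1 / 32) * (D.mu - D.lam) := by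
  unfold sig₂
  have e : B (D.a (i + 1)) (mul (D.a i) (D.a (i + 2)))
      = D.lam - (1 / 32) * (1 + D.lam) + (1 / 32) * (D.lam + D.mu) := by
    rw [hV.2.2.2.1, hV.1 (D.a (i + 1)) (D.a i), mul_one' hV D i, map_add, map_smul, map_add,
      LinearMap.add_apply, LinearMap.smul_apply, LinearMap.add_apply, hV.2.1 (D.sig 0),
      inner_sig hV D, inner_two hV D, smul_eq_mul]
    have := inner_one hV D (i + 1)
    rw [add_assoc, show (1 : ℤ) + 1 = 2 by norm_num] at this
    rw [this]; ring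
  have h2 : B (D.a (i + 1)) (D.a (i + 2)) = D.lam := by
    have := inner_one hV D (i + 1)
    rwa [add_assoc, show (1 : ℤ) + 1 = 2 by norm_num] at this
  rw [map_sub, map_smul, map_add, e, inner_one' hV D, h2, smul_eq_mul]; ring

end Dihedral

end CfsgLib.Majorana
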