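import Mathlib
import Cfsg.Prelude.Def_AxialAlgebras
import Cfsg.Agent.Lib.Majorana.Basic
import Cfsg.Agent.Lib.Majorana.Dihedral

set_option autoImplicit false

/-!
Sakuma's theorem: the product of an axis with the invariant vectors, the linear relation among the
axes and the resulting list of possible inner products.
-/

namespace CfsgLib.Majorana

/-- Inner product of axes at distance 3. -/
noncomputable def sakL3 (l m : ℝ) : ℝ :=
  (-32768 / 7) * l ^ 3 + (36864 / 7) * l ^ 2 + (-1920 / 7) * l * m + (-2169 / 7) * l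
    + (-33 / 7) * m + (33 / 7)

/-- Inner product of axes at distance 4. -/
noncomputable def sakL4 (l m : ℝ) : ℝ :=
  (8388608 / 7) * l ^ 4 + (-9601024 / 7) * l ^ 3 + 65536 * l ^ 2 * m + 110592 * l ^ 2
    + (-640 / 7) * l * m + (-128 / 7) * m ^ 2 + (-19840 / 7) * l + (-3) * m + (156 / 7)

/-- Inner product of axes at distance 5. -/
noncomputable def sakL5 (l m : ℝ) : ℝ :=
  (-13958643712 / 49) * l ^ 5 + (16273899520 / 49) * l ^ 4 + (-754974720 / 49) * l ^ 3 * m
    + (-1633419264 / 49) * l ^ 3 + (12582912 / 49) * l ^ 2 * m + (475136 / 49) * l * m ^ 2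
    + (8683520 / 7) * l ^ 2 + (259584 / 49) * l * m + (-256 / 49) * m ^ 2 + (-137721 / 7) * l
    + (-5256 / 49) * m + (5512 / 49)

/-- Inner product of axes at distance 6. -/
noncomputable def sakL6 (l m : ℝ) : ℝ :=
  (3298534883328 / 49) * l ^ 6 + (-3917010173952 / 49) * l ^ 5 + (177167400960 / 49) * l ^ 4 * m
    + (469317451776 / 49) * l ^ 4 + (-5511315456 / 49) * l ^ 3 * m + (-25165824 / 7) * l ^ 2 * m ^ 2
    + (-22767894528 / 49) * l ^ 3 + (-97910784 / 49) * l ^ 2 * m + (2457600 / 49) * l * m ^ 2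
    + (16384 / 49) * m ^ 3 + (542429184 / 49) * l ^ 2 + (5162880 / 49) * l * m
    + (1152 / 49) * m ^ 2 + (-904320 / 7) * l + (-46500 / 49) * m + (29013 / 49)

/-- Inner product of axes at distance 7. -/
noncomputable def sakL7 (l m : ℝ) : ℝ :=
  (-5453577673768960 / 343) * l ^ 7 + (6594320987586560 / 343) * l ^ 6
    + (-290958264500224 / 343) * l ^ 5 * m + (-130912750665728 / 49) * l ^ 5
    + (13195213275136 / 343) * l ^ 4 * m + (396747603968 / 343) * l ^ 3 * m ^ 2
    + (7793302044672 / 49) * l ^ 4 + (182309617664 / 343) * l ^ 3 * m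
    + (-11928600576 / 343) * l ^ 2 * m ^ 2 + (-90177536 / 343) * l * m ^ 3
    + (-1721526124544 / 343) * l ^ 3 + (-2858352640 / 49) * l ^ 2 * m
    + (53149696 / 343) * l * m ^ 2 + (606208 / 343) * m ^ 3 + (30214684672 / 343) * l ^ 2
    + (55065088 / 49) * l * m + (681216 / 343) * m ^ 2 + (-279385257 / 343) * l
    + (-2350408 / 343) * m + (1062984 / 343)

/-- A polynomial satisfied by the inner products. -/
noncomputable def sakP4 (l m : ℝ) : ℝ :=
  (-786432 / 7) * l ^ 4 + (872448 / 7) * l ^ 3 + (-15360 / 7) * l ^ 2 * m + (-69120 / 7) * l ^ 2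
    + (-3336 / 7) * l * m + (-48 / 7) * m ^ 2 + (1800 / 7) * l + (501 / 56) * m + (-117 / 56)

/-- A polynomial satisfied by the inner products. -/
noncomputable def sakP6 (l m : ℝ) : ℝ :=
  (-77309411328 / 49) * l ^ 6 + (88181047296 / 49) * l ^ 5 + (-4429185024 / 49) * l ^ 4 * m
    + (-6841171968 / 49) * l ^ 4 + (331087872 / 49) * l ^ 3 * m + (-14548992 / 49) * l ^ 2 * m ^ 2
    + (102985728 / 49) * l ^ 3 + (-25420800 / 49) * l ^ 2 * m + (-9216 / 49) * l * m ^ 2
    + (6144 / 49) * m ^ 3 + (4068864 / 49) * l ^ 2 + (690600 / 49) * l * m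
    + (-2304 / 49) * m ^ 2 + (-133032 / 49) * l + (-38793 / 392) * m + (8073 / 392)

/-- A polynomial satisfied by the inner products. -/
noncomputable def sakP7 (l m : ℝ) : ℝ :=
  (125344325566464 / 343) * l ^ 7 + (-145650930941952 / 343) * l ^ 6
    + (7241314861056 / 343) * l ^ 5 * m + (2005615509504 / 49) * l ^ 5
    + (-641023868928 / 343) * l ^ 4 * m + (21239955456 / 343) * l ^ 3 * m ^ 2
    + (-56915656704 / 49) * l ^ 4 + (48834281472 / 343) * l ^ 3 * m
    + (-371982336 / 343) * l ^ 2 * m ^ 2 + (-20054016 / 343) * l * m ^ 3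
    + (-2638823424 / 343) * l ^ 3 + (-281911296 / 49) * l ^ 2 * m + (-8798208 / 343) * l * m ^ 2
    + (-52224 / 343) * m ^ 3 + (325060608 / 343) * l ^ 2 + (4959456 / 49) * l * m
    + (244368 / 343) * m ^ 2 + (-5562912 / 343) * l + (-445245 / 686) * m + (60957 / 686)

end CfsgLib.Majorana

namespace CfsgLib.Majorana.Dihedral

open Cfsg.Axial

variable {V : Type*} [AddCommGroup V] [Module ℝ V]
variable {mul : V →ₗ[ℝ] V →ₗ[ℝ] V} {B : LinearMap.BilinForm ℝ V}
variable (hV : IsMajoranaAmbient mul B) (D : Dihedral mul B)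
include hV

set_option maxHeartbeats 1000000 in
/-- The products forced by the three fusion rules. -/
theorem fusion_products :
    mul (D.a 0) (D.sig₂ 1) = (32 / 3 * D.lam - 19 / 48) • D.sig 0 + (7 / 96 : ℝ) • D.sig₂ 0
      + (1 / 6 * D.lam - 19 / 3072) • (D.a 1 + D.a (-1))
      + (7 / 6144 : ℝ) • (D.a 2 + D.a (-2))
      + (-32 / 3 * D.lam ^ 2 + 5 / 3 * D.lam - 1 / 24 * D.mu - 127 / 3072) • D.a 0 ∧
    mul (D.sig 0) (D.sig 0) = (-5 / 12 * D.lam - 13 / 1536) • D.sig 0
      - (7 / 1536 : ℝ) • D.sig₂ 0 + (7 / 2048 : ℝ) • D.sig₂ 1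
      + (49 / 768 * D.lam - 245 / 196608) • (D.a 1 + D.a (-1))
      + (49 / 196608 : ℝ) • (D.a 2 + D.a (-2))
      + (7 / 6 * D.lam ^ 2 - 7 / 384 * D.lam + 7 / 1536 * D.mu - 7 / 98304) • D.a 0 := by
  have hc := hV.1
  have hass := hV.2.2.2.1
  obtain ⟨-, -, p, q, hp, hq, hqe, hpe⟩ := mul_sigma hV (D.pair 0) (D.norm_one 0) (D.a 1)
  have hS : mul (D.a 0) (D.a 1) - (1 / 32 : ℝ) • (D.a 0 + D.a 1) = D.sig 0 := by simp [sig]
  have hl : B (D.a 0) (D.a 1) = D.lam := rfl
  rw [D.refl, hS, hl, show (2 : ℤ) * 0 - 1 = -1 by norm_num] at hqe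
  rw [D.refl, hl, show (2 : ℤ) * 0 - 1 = -1 by norm_num] at hpe
  rw [hqe] at hpe
  have p00 := axis_idem (D.pair 0)
  have p11 := axis_idem (D.pair 1)
  have pmm := axis_idem (D.pair (-1))
  have p01 := mul_one' hV D 0
  have pm0 := mul_one' hV D (-1)
  have p02 := mul_two D 0
  have pm20 := mul_two D (-2)
  have pm1 := mul_two D (-1)
  have e2 := sig₂_even hV D (-1)
  have o1 := sig₂_odd hV D (-1)
  norm_num at p01 pm0 p02 pm20 pm1 e2 o1
  rw [o1] at pm1
  rw [e2] at pm20
  have p10 : mul (D.a 1) (D.a 0) = D.sig 0 + (1 / 32 : ℝ) • (D.a 0 + D.a 1) := by rw [hc, p01]; norm_num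
  have p0m : mul (D.a 0) (D.a (-1)) = D.sig 0 + (1 / 32 : ℝ) • (D.a (-1) + D.a 0) := by rw [hc, pm0]; norm_num
  have p0m2 : mul (D.a 0) (D.a (-2)) = D.sig₂ 0 + (1 / 32 : ℝ) • (D.a (-2) + D.a 0) := by
    rw [hc, pm20]; norm_num
  have p1m : mul (D.a 1) (D.a (-1)) = D.sig₂ 1 + (1 / 32 : ℝ) • (D.a (-1) + D.a 1) := by
    rw [hc, pm1]; norm_num
  have s0 := mul_sig hV D 0
  have s1 := mul_sig hV D 1
  have sm := mul_sig hV D (-1)
  have t0 := mul_sig₂ hV D 0
  norm_num at s0 s1 sm t0
  have s0' := (hc (D.sig 0) (D.a 0)).trans s0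
  have s1' := (hc (D.sig 0) (D.a 1)).trans s1
  have sm' := (hc (D.sig 0) (D.a (-1))).trans sm
  have E1 := mul_zero_zero (D.pair 0) hp hp
  have E2 := mul_zero_quarter (D.pair 0) hp hq
  have hww := mul_quarter_quarter (D.pair 0) hq hq
  obtain ⟨t, ht⟩ : ∃ t : ℝ, mul (D.a 0) (mul q q) = t • D.a 0 := by
    have hmem : mul (D.a 0) (mul q q) ∈ eigen mul (D.a 0) 1 := mem_eigen.mpr (by rw [hww, one_smul])
    rw [(D.pair 0).2.2.1.2, Submodule.mem_span_singleton] at hmem
    obtain ⟨t, ht⟩ := hmem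
    exact ⟨t, ht.symm⟩
  have htq : t = 1 / 4 * B q q := by
    have e : B (D.a 0) (mul (D.a 0) (mul q q)) = t := by
      rw [ht, map_smul, D.norm_one, smul_eq_mul, mul_one]
    rw [hass, p00, hass, hq, map_smul, LinearMap.smul_apply, smul_eq_mul] at e
    exact e.symm
  have hBq : B q q = -1 / 16 + 4 * D.lam - 4 * D.lam ^ 2 + 1 / 16 * D.mu := by
    have hqa : B q (D.a 0) = 0 := by
      have e := hass (D.a 0) (D.a 0) q
      rw [hq, p00, map_smul, smul_eq_mul] at e
      have e3 : B (D.a 0) q = 0 := by linarith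
      rw [hV.2.1, e3]
    obtain ⟨s, hsdef⟩ : ∃ s : V, s = (1 / 2 : ℝ) • (D.a 1 + D.a (-1)) := ⟨_, rfl⟩
    have hqs : q = (4 : ℝ) • mul (D.a 0) s - (4 * D.lam) • D.a 0 := by
      rw [hsdef, hqe]; simp only [map_smul, map_add, p01, p0m]; norm_num; module
    have e1 : B q (mul (D.a 0) s) = 1 / 4 * B q s := by
      rw [hass, hc, hq, map_smul, LinearMap.smul_apply, smul_eq_mul]
    have hBqq : B q q = B q s := by
      calc B q q = B q ((4 : ℝ) • mul (D.a 0) s - (4 * D.lam) • D.a 0) := by rw [← hqs]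
        _ = B q s := by
          rw [map_sub, map_smul, map_smul, hqa, e1, smul_eq_mul, smul_eq_mul]; ring
    rw [hBqq, hqe, hsdef]
    have bS1 : B (D.sig 0) (D.a 1) = D.lam - 1 / 32 * (1 + D.lam) := by
      rw [hV.2.1]; exact inner_sig hV D 1
    have bSm : B (D.sig 0) (D.a (-1)) = D.lam - 1 / 32 * (1 + D.lam) := by
      rw [hV.2.1]; exact inner_sig hV D (-1)
    have b0m : B (D.a 0) (D.a (-1)) = D.lam := by
      simpa using inner_one' hV D (-1)
    have bmm : B (D.a (-1)) (D.a 1) = D.mu := inner_two_zero_one hV D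
    have b1m : B (D.a 1) (D.a (-1)) = D.mu := by rw [hV.2.1, bmm]
    simp only [map_add, map_smul, LinearMap.add_apply, LinearMap.smul_apply, smul_eq_mul, bS1, bSm,
      b0m, hl, bmm, b1m, D.norm_one]
    ring
  rw [htq, hBq] at ht
  rw [hpe] at E1 E2
  rw [hqe] at E2 ht
  simp only [map_add, map_sub, map_smul, LinearMap.add_apply, LinearMap.sub_apply,
    LinearMap.smul_apply, p00, p11, pmm, p01, p10, pm0, p0m, p02, p0m2, pm1, p1m, s0, s1, sm,
    s0', s1', sm'] at E1 E2 ht
  constructor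
  · linear_combination (norm := module) (8 / 3 : ℝ) • E1 - (8 / 3 : ℝ) • ht
  · linear_combination (norm := module)
      (1 / 4 : ℝ) • E2 + (7 / 24 : ℝ) • ht - (1 / 24 : ℝ) • E1

omit hV in
theorem shift_a (k i : ℤ) : (D.shift k).a i = D.a (i + k) := rfl

theorem shift_lam (k : ℤ) : (D.shift k).lam = D.lam := by
  show B (D.a (0 + k)) (D.a (1 + k)) = D.lam
  rw [zero_add, add_comm 1 k, inner_one hV D]

theorem shift_mu (k : ℤ) : (D.shift k).mu = D.mu := by
  show B (D.a (0 + k)) (D.a (2 + k)) = D.mu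
  rw [zero_add, add_comm 2 k, inner_two hV D]

theorem shift_sig (k : ℤ) : (D.shift k).sig 0 = D.sig 0 := by
  have h : (D.shift k).sig 0 = D.sig k := by
    show mul (D.a (0 + k)) (D.a (0 + 1 + k)) - (1 / 32 : ℝ) • (D.a (0 + k) + D.a (0 + 1 + k))
      = D.sig k
    rw [zero_add, zero_add, add_comm 1 k, sig]
  rw [h, sig_eq hV D]

omit hV in
theorem shift_sig₂ (k i : ℤ) : (D.shift k).sig₂ i = D.sig₂ (i + k) := by
  simp only [sig₂, shift_a, show i + 2 + k = i + k + 2 by ring]

/-- The linear relation among six consecutive axes. -/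
theorem relation :
    D.a 3 = D.a (-2) + (256 * D.lam - 6) • (D.a (-1) - D.a 2)
      + (32768 / 7 * D.lam ^ 2 - 2304 / 7 * D.lam + 128 / 7 * D.mu + 33 / 7) • (D.a 0 - D.a 1)
      + (32 : ℝ) • (D.sig₂ 1 - D.sig₂ 0) := by
  have h0 := (fusion_products hV D).2
  have h1 := (fusion_products hV (D.shift 1)).2
  simp only [shift_a, shift_sig₂, shift_lam hV D, shift_mu hV D, shift_sig hV D] at h1
  norm_num at h1
  rw [show (2 : ℤ) = 2 * 1 by norm_num, sig₂_even hV D] at h1
  norm_num at h1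
  linear_combination (norm := module) (196608 / 49 : ℝ) • h0 - (196608 / 49 : ℝ) • h1

theorem relation_at (j : ℤ) :
    D.a (3 + j) = D.a (-2 + j) + (256 * D.lam - 6) • (D.a (-1 + j) - D.a (2 + j))
      + (32768 / 7 * D.lam ^ 2 - 2304 / 7 * D.lam + 128 / 7 * D.mu + 33 / 7)
        • (D.a (0 + j) - D.a (1 + j))
      + (32 : ℝ) • (D.sig₂ (1 + j) - D.sig₂ (0 + j)) := by
  have h := relation hV (D.shift j)
  simpa only [shift_a, shift_sig₂, shift_lam hV D, shift_mu hV D] using h

theorem inner_sig₂_zero : B (D.a 0) (D.sig₂ 1)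
    = D.lam - (1 / 32) * (1 + D.lam) + (1 / 32) * (D.mu - D.lam) := by
  have h := inner_sig₂_adj hV D (-1)
  have o1 := sig₂_odd hV D (-1)
  norm_num at h o1
  rw [o1] at h; rw [h]

theorem inner_three (i : ℤ) : B (D.a i) (D.a (i + 3)) = sakL3 D.lam D.mu := by
  have key : ∀ E : Dihedral mul B, B (E.a 0) (E.a 3) = sakL3 E.lam E.mu := by
    intro E
    have i1 := inner_one hV E (-1)
    have i2 := inner_two hV E (-2)
    norm_num at i1 i2
    rw [relation hV E]
    simp only [map_add, map_sub, map_smul, smul_eq_mul, inner_sig₂_self hV E 0,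
      inner_sig₂_zero hV E, E.norm_one, (hV.2.1 _ _).trans i1, (hV.2.1 _ _).trans i2]
    show _ = sakL3 E.lam E.mu
    simp only [← show B (E.a 0) (E.a 1) = E.lam from rfl, ← show B (E.a 0) (E.a 2) = E.mu from rfl]
    unfold sakL3; ring
  have h := key (D.shift i)
  rwa [shift_lam hV D, shift_mu hV D, shift_a, shift_a, zero_add, add_comm 3 i] at h

theorem inner_four (i : ℤ) : B (D.a i) (D.a (i + 4)) = sakL4 D.lam D.mu := by
  have key : ∀ E : Dihedral mul B, B (E.a 0) (E.a 4) = sakL4 E.lam E.mu := by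
    intro E
    have r := relation_at hV E 1
    have i1 := inner_one hV E (-1)
    have i3 := inner_three hV E 0
    have e := sig₂_even hV E 1
    norm_num at r i1 i3 e
    rw [e] at r
    rw [r]
    simp only [map_add, map_sub, map_smul, smul_eq_mul, inner_sig₂_self hV E 0,
      inner_sig₂_zero hV E, E.norm_one, (hV.2.1 _ _).trans i1, i3,
      show B (E.a 0) (E.a 1) = E.lam from rfl, show B (E.a 0) (E.a 2) = E.mu from rfl]
    unfold sakL4 sakL3; ring
  have h := key (D.shift i)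
  rwa [shift_lam hV D, shift_mu hV D, shift_a, shift_a, zero_add, add_comm 4 i] at h

theorem inner_five (i : ℤ) : B (D.a i) (D.a (i + 5)) = sakL5 D.lam D.mu := by
  have key : ∀ E : Dihedral mul B, B (E.a 0) (E.a 5) = sakL5 E.lam E.mu := by
    intro E
    have r := relation_at hV E 2
    have i3 := inner_three hV E 0
    have i4 := inner_four hV E 0
    have e := sig₂_even hV E 1
    have o := sig₂_odd hV E 1
    norm_num at r i3 i4 e o
    rw [e, o] at r
    rw [r]
    simp only [map_add, map_sub, map_smul, smul_eq_mul, inner_sig₂_self hV E 0,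
      inner_sig₂_zero hV E, E.norm_one, i3, i4,
      show B (E.a 0) (E.a 1) = E.lam from rfl, show B (E.a 0) (E.a 2) = E.mu from rfl]
    unfold sakL5 sakL4 sakL3; ring
  have h := key (D.shift i)
  rwa [shift_lam hV D, shift_mu hV D, shift_a, shift_a, zero_add, add_comm 5 i] at h

theorem inner_six (i : ℤ) : B (D.a i) (D.a (i + 6)) = sakL6 D.lam D.mu := by
  have key : ∀ E : Dihedral mul B, B (E.a 0) (E.a 6) = sakL6 E.lam E.mu := by
    intro E
    have r := relation_at hV E 3
    have i3 := inner_three hV E 0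
    have i4 := inner_four hV E 0
    have i5 := inner_five hV E 0
    have e := sig₂_even hV E 2
    have o := sig₂_odd hV E 1
    norm_num at r i3 i4 i5 e o
    rw [e, o] at r
    rw [r]
    simp only [map_add, map_sub, map_smul, smul_eq_mul, inner_sig₂_self hV E 0,
      inner_sig₂_zero hV E, E.norm_one, i3, i4, i5,
      show B (E.a 0) (E.a 1) = E.lam from rfl, show B (E.a 0) (E.a 2) = E.mu from rfl]
    unfold sakL6 sakL5 sakL4 sakL3; ring
  have h := key (D.shift i)
  rwa [shift_lam hV D, shift_mu hV D, shift_a, shift_a, zero_add, add_comm 6 i] at h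

theorem inner_seven (i : ℤ) : B (D.a i) (D.a (i + 7)) = sakL7 D.lam D.mu := by
  have key : ∀ E : Dihedral mul B, B (E.a 0) (E.a 7) = sakL7 E.lam E.mu := by
    intro E
    have r := relation_at hV E 4
    have i3 := inner_three hV E 0
    have i4 := inner_four hV E 0
    have i5 := inner_five hV E 0
    have i6 := inner_six hV E 0
    have e := sig₂_even hV E 2
    have o := sig₂_odd hV E 2
    norm_num at r i3 i4 i5 i6 e o
    rw [e, o] at r
    rw [r]
    simp only [map_add, map_sub, map_smul, smul_eq_mul, inner_sig₂_self hV E 0,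
      inner_sig₂_zero hV E, E.norm_one, i3, i4, i5, i6,
      show B (E.a 0) (E.a 1) = E.lam from rfl, show B (E.a 0) (E.a 2) = E.mu from rfl]
    unfold sakL7 sakL6 sakL5 sakL4 sakL3; ring
  have h := key (D.shift i)
  rwa [shift_lam hV D, shift_mu hV D, shift_a, shift_a, zero_add, add_comm 7 i] at h

set_option maxHeartbeats 2000000 in
/-- The three polynomial equations coming from associativity of the form. -/
theorem equations :
    sakP4 D.lam D.mu = 0 ∧ sakP6 D.lam D.mu = 0 ∧ sakP7 D.lam D.mu = 0 := by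
  have hc := hV.1
  have hsym := hV.2.1
  have hass := hV.2.2.2.1
  obtain ⟨hX, -⟩ := fusion_products hV D
  have p00 := axis_idem (D.pair 0)
  have p01 := mul_one' hV D 0
  have p0m := (hc (D.a 0) (D.a (-1))).trans (mul_one' hV D (-1))
  have p02 := mul_two D 0
  have p0m2 := (hc (D.a 0) (D.a (-2))).trans (mul_two D (-2))
  have t0 := mul_sig₂ hV D 0
  have q3 := mul_one' hV D 3
  have q35 := mul_two D 3
  have em2 := sig₂_even hV D (-1)
  have e2 := sig₂_even hV D 1
  have e4 := sig₂_even hV D 2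
  have om1 := sig₂_odd hV D (-1)
  have om3 := sig₂_odd hV D (-2)
  have o3 := sig₂_odd hV D 1
  have o5 := sig₂_odd hV D 2
  norm_num at p01 p0m p02 p0m2 t0 q3 q35 em2 e2 e4 om1 om3 o3 o5
  rw [em2] at p0m2
  rw [o3] at q35
  have hP : mul (D.a 0) (D.a 3) = _ := congrArg (mul (D.a 0)) (relation hV D)
  simp only [map_add, map_sub, map_smul, p00, p01, p0m, p02, p0m2, t0, hX] at hP
  -- inner products with the invariant vectors
  have bS := inner_sig hV D
  have bm2E := inner_sig₂_self hV D (-2)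
  have bm2O := inner_sig₂_adj hV D (-3)
  have b4E := inner_sig₂_self hV D 4
  have b4O := inner_sig₂_adj hV D 3
  have b5O := inner_sig₂_self hV D 5
  have b5E := inner_sig₂_adj hV D 4
  have b3E := inner_sig₂_adj hV D 2
  have b0O := inner_sig₂_zero hV D
  have b0E := inner_sig₂_self hV D 0
  norm_num at bm2E bm2O b4E b4O b5O b5E b3E
  rw [em2] at bm2E; rw [om3] at bm2O; rw [e4] at b4E; rw [o3] at b4O; rw [o5] at b5O
  rw [e4] at b5E; rw [e2] at b3E
  -- inner products of axes
  have m21 := inner_one hV D (-2)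
  have m20 := inner_two hV D (-2)
  have m2p1 := inner_three hV D (-2)
  have m2p2 := inner_four hV D (-2)
  have m23 := inner_five hV D (-2)
  have z3 := inner_three hV D 0
  have f0 := (hsym _ _).trans (inner_four hV D 0)
  have z4 := inner_four hV D 0
  have z5 := inner_five hV D 0
  have f5 := (hsym _ _).trans (inner_five hV D (-1))
  have f6 := (hsym _ _).trans (inner_six hV D (-2))
  have f3 := (hsym _ _).trans (inner_three hV D 1)
  have f2 := (hsym _ _).trans (inner_two hV D 2)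
  have g7 := (hsym _ _).trans (inner_seven hV D (-2))
  have g6 := (hsym _ _).trans (inner_six hV D (-1))
  have g5 := (hsym _ _).trans (inner_five hV D 0)
  have g4 := (hsym _ _).trans (inner_four hV D 1)
  have g3 := (hsym _ _).trans (inner_three hV D 2)
  have h30 := (hsym _ _).trans (inner_three hV D 0)
  have h3m2 := (hsym _ _).trans (inner_five hV D (-2))
  norm_num at m21 m20 m2p1 m2p2 m23 z3 f0 z4 z5 f5 f6 f3 f2 g7 g6 g5 g4 g3 h30 h3m2
  refine ⟨?_, ?_, ?_⟩
  · have e : B (D.a (-2)) (mul (D.a 0) (D.a 3)) = B (D.a 3) (mul (D.a 0) (D.a (-2))) := by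
      rw [hass, hsym, hc]
    rw [hP, p0m2] at e
    simp only [map_add, map_sub, map_smul, smul_eq_mul, bS, bm2E, bm2O, b3E, D.norm_one, m21, m20,
      m2p1, m2p2, h30, h3m2] at e
    unfold sakL3 sakL4 sakL5 at e
    unfold sakP4
    linear_combination e
  · have e : B (D.a 4) (mul (D.a 0) (D.a 3)) = B (D.a 0) (mul (D.a 3) (D.a 4)) := by
      rw [hc (D.a 0), hass, hsym, hc]
    rw [hP, q3] at e
    simp only [map_add, map_sub, map_smul, smul_eq_mul, bS, b4E, b4O, D.norm_one, f0, f5, f6, f3, f2,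
      z3, z4] at e
    unfold sakL3 sakL4 sakL5 sakL6 at e
    unfold sakP6
    linear_combination e
  · have e : B (D.a 5) (mul (D.a 0) (D.a 3)) = B (D.a 0) (mul (D.a 3) (D.a 5)) := by
      rw [hc (D.a 0), hass, hsym, hc]
    rw [hP, q35] at e
    simp only [map_add, map_sub, map_smul, smul_eq_mul, bS, b5E, b5O, b0O, D.norm_one, g7, g6, g5, g4,
      g3, z3, z5] at e
    unfold sakL3 sakL4 sakL5 sakL6 sakL7 at e
    unfold sakP7
    linear_combination e

end CfsgLib.Majorana.Dihedral
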