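import Mathlib
import Cfsg.Prelude.Def_AxialAlgebras
import Cfsg.Agent.Lib.Majorana.Basic
import Cfsg.Agent.Lib.Majorana.Dihedral
import Cfsg.Agent.Lib.Majorana.Sakuma

set_option autoImplicit false

/-!
The solutions of the three polynomial equations, and the periodicity of a dihedral sequence of axes.
-/

namespace CfsgLib.Majorana

open Cfsg.Axial

set_option maxHeartbeats 1000000 in
theorem saku_values (l m : ℝ) (h1 : sakP4 l m = 0) (h2 : sakP6 l m = 0) (h3 : sakP7 l m = 0) :
    l = 1 ∨ m = 1 ∨ sakL3 l m = 1 ∨ sakL4 l m = 1 ∨ sakL5 l m = 1 ∨ sakL6 l m = 1 := by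
  obtain ⟨a, ha⟩ : ∃ a : ℝ, a = (754974720 / 49) * l ^ 4 + (1730150400 / 49) * l ^ 3
      + (-27325440 / 49) * l ^ 2 + (-45120 / 49) * l + (2925 / 196) := ⟨_, rfl⟩
  obtain ⟨b, hb⟩ : ∃ b : ℝ, b = (193273528320 / 49) * l ^ 6 + (-204849807360 / 49) * l ^ 5
      + (1274019840 / 7) * l ^ 4 + (215654400 / 49) * l ^ 3 + (-2211840 / 7) * l ^ 2
      + (214080 / 49) * l + (-2925 / 196) := ⟨_, rfl⟩
  have hlin : a * m + b = 0 := by
    have e1 := h1
    have e2 := h2
    unfold sakP4 at e1
    unfold sakP6 at e2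
    rw [ha, hb]
    linear_combination e2 - (49152 * l ^ 2 + (9088 / 7) * l + (-128 / 7) * m + (-17)) * e1
  have hR : (-2334666046828865126400 / 49 : ℝ) * ((l - 1) * (l - 1 / 8) * l * (l - 13 / 256)
      * (l - 1 / 64) ^ 2 * (l - 1 / 32) * (l - 3 / 128) * (l - 5 / 256) * (l - 1 / 192) ^ 2) = 0 := by
    have e1 := h1
    unfold sakP4 at e1
    subst ha; subst hb
    linear_combination (-7 / 48 : ℝ) *
      ((754974720 / 49) * l ^ 4 + (1730150400 / 49) * l ^ 3
        + (-27325440 / 49) * l ^ 2 + (-45120 / 49) * l + (2925 / 196)) ^ 2 * e1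
      - (((754974720 / 49) * l ^ 4 + (1730150400 / 49) * l ^ 3
        + (-27325440 / 49) * l ^ 2 + (-45120 / 49) * l + (2925 / 196)) * m
        - ((193273528320 / 49) * l ^ 6 + (-204849807360 / 49) * l ^ 5
          + (1274019840 / 7) * l ^ 4 + (215654400 / 49) * l ^ 3 + (-2211840 / 7) * l ^ 2
          + (214080 / 49) * l + (-2925 / 196))
        - ((-320) * l ^ 2 + (-139 / 2) * l + (167 / 128))
          * ((754974720 / 49) * l ^ 4 + (1730150400 / 49) * l ^ 3
            + (-27325440 / 49) * l ^ 2 + (-45120 / 49) * l + (2925 / 196))) * hlin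
  simp only [mul_eq_zero, pow_eq_zero_iff, ne_eq, OfNat.ofNat_ne_zero, not_false_eq_true,
    sub_eq_zero] at hR
  rcases hR with hR | ((((((((((h | h) | h) | h) | h) | h) | h) | h) | h)))
  · norm_num at hR
  · exact Or.inl h
  · -- the values 1/8 and 0
    right; left; subst h ha hb; norm_num at hlin; linarith
  · right; left; subst h ha hb; norm_num at hlin; linarith
  · right; right; left
    subst h ha hb; norm_num at hlin
    have hm : m = 13 / 256 := by linarith
    subst hm; norm_num [sakL3]
  · have e1 := h1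
    unfold sakP4 at e1
    subst h; norm_num at e1
    have hq : (m - 1 / 64) * (m - 1 / 8) = 0 := by linear_combination (-7 / 48 : ℝ) * e1
    rcases mul_eq_zero.mp hq with hm | hm
    · right; right; left
      rw [sub_eq_zero.mp hm]; norm_num [sakL3]
    · right; right; right; left
      rw [sub_eq_zero.mp hm]; norm_num [sakL4]
  · right; right; right; left
    subst h ha hb; norm_num at hlin
    have hm : m = 0 := by linarith
    subst hm; norm_num [sakL4]
  · right; right; right; right; left
    subst h ha hb; norm_num at hlin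
    have hm : m = 3 / 128 := by linarith
    subst hm; norm_num [sakL5]
  · right; right; right; right; right
    subst h ha hb; norm_num at hlin
    have hm : m = 13 / 256 := by linarith
    subst hm; norm_num [sakL6]
  · exfalso
    have e1 := h1
    have e3 := h3
    unfold sakP4 at e1
    unfold sakP7 at e3
    subst h; norm_num at e1 e3
    nlinarith [e1, e3, sq_nonneg m, sq_nonneg (m - 1 / 2)]

/-- A dihedral sequence of Majorana axes repeats after at most six steps. -/
theorem Dihedral.periodic {V : Type*} [AddCommGroup V] [Module ℝ V]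
    {mul : V →ₗ[ℝ] V →ₗ[ℝ] V} {B : LinearMap.BilinForm ℝ V}
    (hV : IsMajoranaAmbient mul B) (D : Dihedral mul B) :
    ∃ n : ℕ, 1 ≤ n ∧ n ≤ 6 ∧ D.a (n : ℤ) = D.a 0 := by
  obtain ⟨h1, h2, h3⟩ := Dihedral.equations hV D
  have key : ∀ n : ℕ, 1 ≤ n → n ≤ 6 → B (D.a 0) (D.a (n : ℤ)) = 1 →
      ∃ n : ℕ, 1 ≤ n ∧ n ≤ 6 ∧ D.a (n : ℤ) = D.a 0 := fun n hn hn' h =>
    ⟨n, hn, hn', eq_of_inner_eq_one hV (D.norm_one _) (D.norm_one _) h⟩
  rcases saku_values _ _ h1 h2 h3 with h | h | h | h | h | h
  · exact key 1 le_rfl (by norm_num) h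
  · exact key 2 (by norm_num) (by norm_num) h
  · refine key 3 (by norm_num) (by norm_num) ?_
    simpa using (Dihedral.inner_three hV D 0).trans h
  · refine key 4 (by norm_num) (by norm_num) ?_
    simpa using (Dihedral.inner_four hV D 0).trans h
  · refine key 5 (by norm_num) (by norm_num) ?_
    simpa using (Dihedral.inner_five hV D 0).trans h
  · refine key 6 (by norm_num) (by norm_num) ?_
    simpa using (Dihedral.inner_six hV D 0).trans h

end CfsgLib.Majorana
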